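import Mathlib

/-!
# Elementary facts: slopes, square roots of polynomials, Witt roots of unity, Young diagrams
-/

set_option autoImplicit false
universe u v

open Finset

namespace Groth.Agent.H27Num

theorem isLeast_max_three (i j : ℤ) :
    IsLeast (Set.range fun n : ℕ => max (-i - (n : ℤ)) 0 + max (-j + (n : ℤ)) 0)
      (max (max (-i - j) (-j)) 0) := by
  refine ⟨⟨j.toNat, ?_⟩, ?_⟩
  · dsimp only; omega
  · rintro _ ⟨n, rfl⟩; dsimp only; omega

theorem isLeast_slope (μ : ℚ) (hμ0 : 0 < μ) (hμ1 : μ ≤ 1) (i : ℤ) :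
    IsLeast (Set.range fun j : ℤ => ((max (max (-i - j) (-j)) 0 : ℤ) : ℚ) + (j : ℚ) * μ)
      (max (-(i : ℚ) * μ) 0) := by
  refine ⟨⟨max (-i) 0, ?_⟩, ?_⟩
  · have h : max (max (-i - max (-i) 0) (-(max (-i) 0))) 0 = (0 : ℤ) := by omega
    dsimp only
    rw [h, Int.cast_zero, zero_add]
    push_cast
    rw [max_mul_of_nonneg _ _ hμ0.le, zero_mul]
  · rintro _ ⟨j, rfl⟩
    dsimp only
    push_cast
    set A : ℚ := max (max (-(i : ℚ) - j) (-(j : ℚ))) 0
    have hA1 : -(i : ℚ) - j ≤ A := (le_max_left _ _).trans (le_max_left _ _)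
    have hA2 : -(j : ℚ) ≤ A := (le_max_right _ _).trans (le_max_left _ _)
    have hA3 : 0 ≤ A := le_max_right _ _
    have h4 : A * μ ≤ A := mul_le_of_le_one_right hA3 hμ1
    have h5 := mul_le_mul_of_nonneg_right hA1 hμ0.le
    have h6 := mul_le_mul_of_nonneg_right hA2 hμ0.le
    exact max_le (by linarith) (by linarith)

theorem isLeast_slope_totalFil (μ : ℚ) (hμ0 : 0 < μ) (hμ1 : μ ≤ 1) (N : ℕ) (i : ℤ) :
    IsLeast {x : ℚ | ∃ m j : ℤ, max (max (-i - j) (-j)) 0 ≤ m ∧ (N : ℤ) ≤ 2 * m + i + 2 * j ∧
        x = (m : ℚ) + (j : ℚ) * μ}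
      (((max (max ⌈((N : ℚ) - i) / 2⌉ (-i)) 0 : ℤ) : ℚ) * μ) := by
  have hc : ∀ z : ℤ, ⌈((N : ℚ) - i) / 2⌉ ≤ z ↔ (N : ℤ) - i ≤ 2 * z := fun z => by
    rw [Int.ceil_le, div_le_iff₀ (by norm_num : (0 : ℚ) < 2)]
    constructor
    · intro h
      have : ((N : ℤ) : ℚ) - i ≤ ((2 * z : ℤ) : ℚ) := by push_cast; linarith
      exact_mod_cast this
    · intro h
      have : ((N : ℤ) : ℚ) - i ≤ ((2 * z : ℤ) : ℚ) := by exact_mod_cast h
      push_cast at this
      linarith
  set J := max (max ⌈((N : ℚ) - i) / 2⌉ (-i)) 0 with hJ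
  have hJ1 : ⌈((N : ℚ) - i) / 2⌉ ≤ J := by omega
  refine ⟨⟨0, J, by omega, ?_, by push_cast; ring⟩, ?_⟩
  · have := (hc J).mp hJ1
    omega
  · rintro x ⟨m, j, hm, hN, rfl⟩
    have h1 : ⌈((N : ℚ) - i) / 2⌉ ≤ m + j := (hc _).mpr (by omega)
    have h2 : (J : ℚ) ≤ (m : ℚ) + j := by
      have : J ≤ m + j := by omega
      exact_mod_cast this
    have h3 := mul_le_mul_of_nonneg_right h2 hμ0.le
    have h4 : (m : ℚ) * μ ≤ m := mul_le_of_le_one_right (by exact_mod_cast (le_max_right _ _).trans hm) hμ1
    linarith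

theorem pow_apply_eq_pow_smul (W : Type u) [CommRing W] (p : W) (m n : ℕ)
    (M : Type v) [AddCommGroup M] [Module W M] (e : ℕ → M)
    (he : ∀ i : ℕ, e (i + (m + n)) = p • e i)
    (φ : M →ₗ[W] M) (hφ : ∀ i : ℕ, i < m + n → φ (e i) = e (i + m)) (i : ℕ) :
    (φ ^ (m + n)) (e i) = p ^ m • e i := by
  rcases Nat.eq_zero_or_pos (m + n) with h | h
  · have hm : m = 0 := by omega
    rw [h, hm, pow_zero, pow_zero, one_smul, Module.End.one_apply]
  have hshift : ∀ i q, e (i + q * (m + n)) = p ^ q • e i := fun i q => by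
    induction q with
    | zero => simp
    | succ q ih => rw [add_mul, one_mul, ← add_assoc, he, ih, smul_smul, ← pow_succ']
  have hall : ∀ i, φ (e i) = e (i + m) := fun i => by
    induction i using Nat.strong_induction_on with
    | _ i ih =>
      by_cases hi : i < m + n
      · exact hφ i hi
      · obtain ⟨j, rfl⟩ : ∃ j, i = j + (m + n) := ⟨i - (m + n), by omega⟩
        rw [he, map_smul, ih j (by omega), ← he, add_right_comm]
  have hpow : ∀ k i, (φ ^ k) (e i) = e (i + k * m) := fun k => by
    induction k with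
    | zero => simp
    | succ k ih =>
      intro i
      rw [pow_succ', Module.End.mul_apply, ih, hall, add_assoc, add_mul, one_mul]
  rw [hpow, mul_comm, hshift]

theorem exists_map_eq_of_sq_eq_map (L : Type u) [Field L] [CharZero L]
    (h : Polynomial L) (hm : h.Monic) (f : Polynomial ℚ)
    (hf : h ^ 2 = Polynomial.map (algebraMap ℚ L) f) :
    ∃ g : Polynomial ℚ, Polynomial.map (algebraMap ℚ L) g = h := by
  let S := (algebraMap ℚ L).fieldRange
  have hS : ∀ i, h.coeff (h.natDegree - i) ∈ S := fun i => by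
    induction i using Nat.strong_induction_on with
    | _ i ih =>
      by_cases hi : h.natDegree ≤ i
      · by_cases hi' : h.natDegree < i
        · rw [Nat.sub_eq_zero_of_le hi, ← Nat.sub_self h.natDegree]
          exact ih _ hi'
        · have hid : i = h.natDegree := by omega
          by_cases hd : h.natDegree = 0
          · rw [hid, Nat.sub_self, ← hd, hm.coeff_natDegree]
            exact S.one_mem
          · exact step i ih hd hid.le
      · by_cases h0 : i = 0
        · rw [h0, Nat.sub_zero, hm.coeff_natDegree]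
          exact S.one_mem
        · exact step i ih (by omega) (by omega)
  have hlift : h ∈ Polynomial.lifts (algebraMap ℚ L) := by
    rw [Polynomial.lifts_iff_coeff_lifts]
    intro n
    by_cases hn : n ≤ h.natDegree
    · have := hS (h.natDegree - n)
      rwa [Nat.sub_sub_self hn] at this
    · exact ⟨0, by rw [map_zero, Polynomial.coeff_eq_zero_of_natDegree_lt (by omega)]⟩
  exact hlift
where
  step (i : ℕ) (ih : ∀ j < i, h.coeff (h.natDegree - j) ∈ (algebraMap ℚ L).fieldRange)
      (hd : h.natDegree ≠ 0) (hi : i ≤ h.natDegree) :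
      h.coeff (h.natDegree - i) ∈ (algebraMap ℚ L).fieldRange := by
    classical
    by_cases h0 : i = 0
    · rw [h0, Nat.sub_zero, hm.coeff_natDegree]
      exact Subfield.one_mem _
    set d := h.natDegree with hdd
    have hmem : (h ^ 2).coeff (2 * d - i) ∈ (algebraMap ℚ L).fieldRange := by
      rw [hf, Polynomial.coeff_map]
      exact ⟨_, rfl⟩
    rw [sq, Polynomial.coeff_mul] at hmem
    have hsub : ({(d, d - i), (d - i, d)} : Finset (ℕ × ℕ)) ⊆
        Finset.HasAntidiagonal.antidiagonal (2 * d - i) := by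
      intro x hx
      simp only [Finset.mem_insert, Finset.mem_singleton] at hx
      rw [Finset.HasAntidiagonal.mem_antidiagonal]
      rcases hx with rfl | rfl <;> simp <;> omega
    rw [← Finset.sum_sdiff hsub, Finset.sum_pair (by intro e; simp at e; omega)] at hmem
    have hrest : ∑ x ∈ Finset.HasAntidiagonal.antidiagonal (2 * d - i) \ {(d, d - i), (d - i, d)},
        h.coeff x.1 * h.coeff x.2 ∈ (algebraMap ℚ L).fieldRange := by
      refine Subfield.sum_mem _ fun x hx => ?_
      simp only [Finset.mem_sdiff, Finset.HasAntidiagonal.mem_antidiagonal, Finset.mem_insert,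
        Finset.mem_singleton, not_or] at hx
      obtain ⟨hx, hx1, hx2⟩ := hx
      by_cases hbig : d < x.1 ∨ d < x.2
      · rcases hbig with hb | hb <;> simp [Polynomial.coeff_eq_zero_of_natDegree_lt hb, Subfield.zero_mem]
      · push Not at hbig
        have e1 : x.1 ≠ d := fun e => hx1 (Prod.ext e (by simp; omega))
        have e2 : x.2 ≠ d := fun e => hx2 (Prod.ext (by simp; omega) e)
        have h1 := ih (d - x.1) (by omega)
        have h2 := ih (d - x.2) (by omega)
        rw [Nat.sub_sub_self hbig.1] at h1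
        rw [Nat.sub_sub_self hbig.2] at h2
        exact Subfield.mul_mem _ h1 h2
    have h2 : 2 * h.coeff (d - i) ∈ (algebraMap ℚ L).fieldRange := by
      have := Subfield.sub_mem _ hmem hrest
      rw [add_sub_cancel_left, hdd, hm.coeff_natDegree, one_mul, mul_one] at this
      rwa [two_mul, hdd]
    have := Subfield.mul_mem _ (Subfield.inv_mem _
      (show (2 : L) ∈ (algebraMap ℚ L).fieldRange from ⟨2, map_ofNat _ 2⟩)) h2
    rwa [inv_mul_cancel_left₀ (two_ne_zero' L)] at this

theorem wittVector_eq_one (p : ℕ) [hp : Fact p.Prime] (hp2 : p ≠ 2)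
    (k : Type u) [Field k] [CharP k p] [PerfectRing k p]
    (x : WittVector p k) (n : ℕ) (hn : 0 < n) (hx : x ^ n = 1) (h0 : x.coeff 0 = 1) : x = 1 := by
  have hprime : ∀ y : WittVector p k, y.coeff 0 = 1 → ∀ q : ℕ, q.Prime → y ^ q = 1 → y = 1 := by
    intro y hy q hq hyq
    by_contra hne
    have hsum : ∑ i ∈ Finset.range q, y ^ i = 0 := by
      have := mul_geom_sum y q
      rw [hyq, sub_self, mul_eq_zero, sub_eq_zero] at this
      exact this.resolve_left hne
    have hc : (WittVector.constantCoeff : WittVector p k →+* k) y = 1 := hy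
    have hq' : q = p := by
      have h1 := congrArg (WittVector.constantCoeff : WittVector p k →+* k) hsum
      simp only [map_sum, map_pow, hc, one_pow, Finset.sum_const, Finset.card_range, nsmul_one,
        map_zero] at h1
      exact ((Nat.prime_dvd_prime_iff_eq hp.out hq).mp ((CharP.cast_eq_zero_iff k p q).mp h1)).symm
    subst hq'
    obtain ⟨b, hb⟩ : ∃ b, y = 1 + (q : WittVector q k) * b := by
      obtain ⟨c, hc'⟩ := (WittVector.frobenius_bijective q k).surjective ((y - 1).shift 1)
      have h1 : y - 1 = WittVector.verschiebung ((y - 1).shift 1) :=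
        WittVector.eq_iterate_verschiebung (n := 1) (fun i hi => by
          interval_cases i
          change WittVector.constantCoeff (y - 1) = 0
          rw [map_sub, hc, map_one, sub_self])
      refine ⟨c, ?_⟩
      rw [mul_comm, ← WittVector.verschiebung_frobenius, hc', ← h1, add_sub_cancel]
    have h := odd_sq_dvd_geom_sum₂_sub (a := (1 : WittVector q k)) (b := b)
      (hq.odd_of_ne_two hp2)
    simp only [one_pow, mul_one, ← hb, hsum, zero_sub, dvd_neg] at h
    obtain ⟨c, hc'⟩ := h
    have hp0 : (q : WittVector q k) ≠ 0 := WittVector.p_nonzero q k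
    have hcq : (q : WittVector q k) * c = 1 := by
      refine mul_left_cancel₀ hp0 ?_
      rw [← mul_assoc, ← sq, ← hc', mul_one]
    have := congrArg (WittVector.constantCoeff : WittVector q k →+* k) hcq
    rw [map_mul, map_natCast, CharP.cast_eq_zero, zero_mul, map_one] at this
    exact zero_ne_one this
  induction n using Nat.strong_induction_on with
  | _ n ih =>
    by_cases h1 : n = 1
    · rwa [h1, pow_one] at hx
    obtain ⟨q, hq, m, rfl⟩ := Nat.exists_prime_and_dvd h1
    have hm : 0 < m := Nat.pos_of_mul_pos_left hn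
    refine ih m (lt_mul_left hm hq.one_lt) hm ?_
    refine hprime (x ^ m) ?_ q hq (by rwa [← pow_mul, mul_comm])
    change WittVector.constantCoeff (x ^ m) = 1
    rw [map_pow, show WittVector.constantCoeff x = 1 from h0, one_pow]

theorem youngDiagram_euler (μ : YoungDiagram) (hμ : μ ≠ ⊥) :
    μ.cells.card + (μ.cells.filter (fun c => (c.1 + 1, c.2 + 1) ∈ μ)).card =
      (μ.cells.filter (fun c => (c.1 + 1, c.2) ∈ μ)).card + (μ.cells.filter (fun c => (c.1, c.2 + 1) ∈ μ)).card + 1 := by
  classical
  have h00 : (0, 0) ∈ μ := by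
    by_contra h
    refine hμ (le_bot_iff.mp fun c hc => absurd (μ.up_left_mem (Nat.zero_le c.1) (Nat.zero_le c.2) hc) h)
  set R := μ.cells.filter (fun c => ¬ (c.1, c.2 + 1) ∈ μ) with hR
  set B := (μ.cells.filter (fun c => (c.1 + 1, c.2) ∈ μ)).filter (fun c => ¬ (c.1 + 1, c.2 + 1) ∈ μ)
    with hB
  have hl : 0 < μ.rowLen 0 := YoungDiagram.mem_iff_lt_rowLen.mp h00
  have hkey : R = insert (0, μ.rowLen 0 - 1) (B.image fun c => (c.1 + 1, c.2)) := by
    ext ⟨i, j⟩
    simp only [hR, hB, Finset.mem_filter, Finset.mem_insert, Finset.mem_image, Prod.mk.injEq,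
      YoungDiagram.mem_cells, Prod.exists]
    constructor
    · rintro ⟨hm, hn⟩
      rcases i with _ | i
      · left
        rw [YoungDiagram.mem_iff_lt_rowLen] at hm hn
        exact ⟨rfl, by omega⟩
      · right
        exact ⟨i, j, ⟨⟨μ.up_left_mem (Nat.le_succ i) le_rfl hm, hm⟩, hn⟩, rfl, rfl⟩
    · rintro (⟨rfl, rfl⟩ | ⟨a, b, ⟨⟨-, hb⟩, hb'⟩, rfl, rfl⟩)
      · exact ⟨YoungDiagram.mem_iff_lt_rowLen.mpr (by omega),
          fun h => by have := YoungDiagram.mem_iff_lt_rowLen.mp h; omega⟩
      · exact ⟨hb, hb'⟩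
  have hcard : R.card = B.card + 1 := by
    rw [hkey, Finset.card_insert_of_notMem (by simp), Finset.card_image_of_injective]
    intro a b h
    simp only [Prod.mk.injEq, Nat.add_right_cancel_iff] at h
    exact Prod.ext h.1 h.2
  have h1 := Finset.card_filter_add_card_filter_not (s := μ.cells) (fun c => (c.1, c.2 + 1) ∈ μ)
  have h2 := Finset.card_filter_add_card_filter_not
    (s := μ.cells.filter (fun c => (c.1 + 1, c.2) ∈ μ)) (fun c => (c.1 + 1, c.2 + 1) ∈ μ)
  have h3 : (μ.cells.filter (fun c => (c.1 + 1, c.2) ∈ μ)).filter (fun c => (c.1 + 1, c.2 + 1) ∈ μ)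
      = μ.cells.filter (fun c => (c.1 + 1, c.2 + 1) ∈ μ) := by
    ext c
    simp only [Finset.mem_filter]
    exact ⟨fun h => ⟨h.1.1, h.2⟩, fun h => ⟨⟨h.1, μ.up_left_mem le_rfl (Nat.le_succ _) h.2⟩, h.2⟩⟩
  rw [h3, ← hB] at h2
  rw [← hR] at h1
  omega

theorem nilradical_pow_finrank_eq_bot (F A : Type u) [Field F] [CommRing A] [Algebra F A]
    [FiniteDimensional F A] : nilradical A ^ Module.finrank F A = ⊥ := by
  have : IsNoetherianRing A := isNoetherian_of_tower F inferInstance
  have hN : IsNilpotent (nilradical A) := IsNoetherianRing.isNilpotent_nilradical A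
  have key : ∀ i, nilradical A ^ i = ⊥ ∨
      Module.finrank F ((nilradical A ^ i).restrictScalars F) + i ≤ Module.finrank F A := by
    intro i
    induction i with
    | zero => exact Or.inr (by simpa using Submodule.finrank_le _)
    | succ i ih =>
      rcases ih with h | h
      · exact Or.inl (by rw [pow_succ, h, Ideal.bot_mul])
      · by_cases he : nilradical A ^ (i + 1) = nilradical A ^ i
        · left
          obtain ⟨N, hN⟩ := hN
          have : ∀ j, nilradical A ^ (i + j) = nilradical A ^ i := fun j => by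
            induction j with
            | zero => rw [Nat.add_zero]
            | succ j ihj => rw [← Nat.add_assoc, pow_succ, ihj, ← pow_succ, he]
          rw [he, ← this N, pow_add, hN, mul_zero, Ideal.zero_eq_bot]
        · right
          have hlt : (nilradical A ^ (i + 1)).restrictScalars F < (nilradical A ^ i).restrictScalars F :=
            lt_of_le_of_ne (Ideal.pow_le_pow_right (Nat.le_succ i))
              (fun e => he (Submodule.restrictScalars_injective F A A e))
          have := Submodule.finrank_lt_finrank_of_lt hlt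
          omega
  rcases key (Module.finrank F A) with h | h
  · exact h
  · have h0 : Module.finrank F ((nilradical A ^ Module.finrank F A).restrictScalars F) = 0 := by omega
    rwa [Submodule.finrank_eq_zero, Submodule.restrictScalars_eq_bot_iff] at h0

end Groth.Agent.H27Num
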